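import Mathlib.RingTheory.Flat.Basic
import Mathlib.RingTheory.Localization.AtPrime.Basic
import Mathlib.LinearAlgebra.TensorProduct.Quotient
import Mathlib.LinearAlgebra.DirectSum.Finsupp
import Mathlib.RingTheory.LocalRing.ResidueField.Ideal
import Mathlib.Algebra.Module.Torsion.Basic
import Mathlib.LinearAlgebra.Basis.VectorSpace

/-!
# Symbolic powers under flat maps with prime extension
-/

universe u

namespace GrothLib.SymbFlat

open TensorProduct

variable {R S : Type u} [CommRing R] [CommRing S] [Algebra R S] [Module.Flat R S]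

omit [Module.Flat R S] in
lemma tmul_one_eq_zero_iff (I : Ideal R) (s : S) :
    s ⊗ₜ[R] (Ideal.Quotient.mk I 1) = 0 ↔ s ∈ I.map (algebraMap R S) := by
  rw [← (tensorQuotEquivQuotSMul S I).map_eq_zero_iff]
  have : tensorQuotEquivQuotSMul S I (s ⊗ₜ[R] Ideal.Quotient.mk I 1) =
      Submodule.Quotient.mk s := by
    rw [tensorQuotEquivQuotSMul_tmul_mk, one_smul]
  rw [this, Submodule.Quotient.mk_eq_zero, Ideal.smul_top_eq_map, Submodule.restrictScalars_mem]

variable (p : Ideal R) [p.IsPrime]

/-- The ideal `p^n R_p ∩ R`. -/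
def symb (n : ℕ) : Ideal R :=
  ((p ^ n).map (algebraMap R (Localization.AtPrime p))).comap (algebraMap R (Localization.AtPrime p))

/-- `s ↦ s ⊗ 1` into `S ⊗ R_p/p^n R_p` has kernel the extension of the symbolic power. -/
lemma tmul_one_W_eq_zero_iff (n : ℕ) (s : S) :
    s ⊗ₜ[R] (Ideal.Quotient.mk ((p ^ n).map (algebraMap R (Localization.AtPrime p))) 1) = 0 ↔
      s ∈ (symb p n).map (algebraMap R S) := by
  let f : (R ⧸ symb p n) →ₐ[R]
      (Localization.AtPrime p ⧸ (p ^ n).map (algebraMap R (Localization.AtPrime p))) :=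
    Ideal.quotientMapₐ _ (Algebra.ofId R _) le_rfl
  have hf : Function.Injective f :=
    Ideal.quotientMap_injective' (f := algebraMap R (Localization.AtPrime p)) (H := le_rfl) le_rfl
  have hinj := Module.Flat.lTensor_preserves_injective_linearMap (M := S) f.toLinearMap hf
  rw [← tmul_one_eq_zero_iff, ← map_eq_zero_iff _ hinj, LinearMap.lTensor_tmul]
  have : f.toLinearMap (Ideal.Quotient.mk (symb p n) 1) =
      Ideal.Quotient.mk ((p ^ n).map (algebraMap R (Localization.AtPrime p))) 1 := map_one f
  rw [this]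

variable {p}

omit [Module.Flat R S] in
/-- Multiplication by a unit on the right is injective on tensors. -/
lemma smul_eq_zero_imp {W : Type u} [AddCommGroup W] [Module R W]
    [Module (Localization.AtPrime p) W] [IsScalarTower R (Localization.AtPrime p) W]
    {a : R} (ha : a ∉ p) (x : S ⊗[R] W) (h : a • x = 0) : x = 0 := by
  obtain ⟨b, hb⟩ := (IsLocalization.map_units (Localization.AtPrime p)
    (⟨a, ha⟩ : p.primeCompl)).exists_left_inv
  let g : W →ₗ[R] W :=
    (LinearMap.lsmul (Localization.AtPrime p) W b).restrictScalars R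
  have hg : g.lTensor S (a • x) = x := by
    rw [map_smul]
    show (a • g.lTensor S) x = x
    have : a • g = LinearMap.id := LinearMap.ext fun w => by
      show a • b • w = w
      rw [← algebraMap_smul (Localization.AtPrime p), smul_smul, mul_comm]
      rw [show b * algebraMap R (Localization.AtPrime p) a = 1 from hb, one_smul]
    rw [show a • g.lTensor S = (a • g).lTensor S from (LinearMap.lTensor_smul S a g).symm, this,
      LinearMap.lTensor_id, LinearMap.id_apply]
  rw [← hg, h, map_zero]

/-- Elements of `R` outside `p` stay outside `pS` when it is prime. -/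
lemma algebraMap_notMem [hq : (p.map (algebraMap R S)).IsPrime] {a : R} (ha : a ∉ p) :
    algebraMap R S a ∉ p.map (algebraMap R S) := by
  intro h
  have e : symb p 1 = p := by
    rw [symb, pow_one, Localization.AtPrime.map_eq_maximalIdeal]
    exact Localization.AtPrime.under_maximalIdeal (I := p)
  apply hq.ne_top
  rw [Ideal.eq_top_iff_one]
  rw [← e] at h ⊢
  rw [← tmul_one_W_eq_zero_iff] at h ⊢
  refine smul_eq_zero_imp ha _ ?_
  rw [smul_tmul', Algebra.smul_def, mul_one]
  exact h

/-- `t` outside `pS` is injective on `S ⊗ κ(p)`. -/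
lemma eq_zero_of_residue [hq : (p.map (algebraMap R S)).IsPrime] {t : S}
    (ht : t ∉ p.map (algebraMap R S))
    (x : S ⊗[R] (Localization.AtPrime p ⧸ IsLocalRing.maximalIdeal (Localization.AtPrime p)))
    (hx : t • x = 0) : x = 0 := by
  let m := IsLocalRing.maximalIdeal (Localization.AtPrime p)
  have hm : (p ^ 1).map (algebraMap R (Localization.AtPrime p)) = m := by
    rw [pow_one]; exact Localization.AtPrime.map_eq_maximalIdeal
  have e : symb p 1 = p := by
    rw [symb, pow_one, Localization.AtPrime.map_eq_maximalIdeal]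
    exact Localization.AtPrime.under_maximalIdeal (I := p)
  have key : ∀ s : S, s ⊗ₜ[R] (Ideal.Quotient.mk m 1) = 0 ↔ s ∈ p.map (algebraMap R S) := by
    intro s
    have := tmul_one_W_eq_zero_iff p 1 s
    rwa [e, hm] at this
  have hgen : ∀ y : S ⊗[R] (Localization.AtPrime p ⧸ m),
      ∃ (a : R) (s : S), a ∉ p ∧ a • y = s ⊗ₜ[R] Ideal.Quotient.mk m 1 := by
    intro y
    induction y using TensorProduct.induction_on with
    | zero => exact ⟨1, 0, fun h => hq.ne_top (by
        rw [(Ideal.eq_top_iff_one p).2 h, Ideal.map_top]), by simp⟩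
    | tmul s w =>
      obtain ⟨w, rfl⟩ := Ideal.Quotient.mk_surjective w
      obtain ⟨b, a, rfl⟩ := IsLocalization.exists_mk'_eq p.primeCompl w
      refine ⟨a, b • s, a.2, ?_⟩
      rw [← tmul_smul, TensorProduct.smul_tmul]
      congr 1
      show Ideal.Quotient.mk m ((a : R) • IsLocalization.mk' _ b a) = Ideal.Quotient.mk m (b • 1)
      rw [Algebra.smul_def, IsLocalization.mk'_spec', Algebra.smul_def, mul_one]
    | add y z hy hz =>
      obtain ⟨a, s, ha, hy⟩ := hy
      obtain ⟨c, t, hc, hz⟩ := hz
      refine ⟨a * c, c • s + a • t, fun h => (Ideal.IsPrime.mem_or_mem ‹_› h).elim ha hc, ?_⟩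
      rw [smul_add, mul_comm a c, mul_smul, hy, mul_comm c a, mul_smul, hz, add_tmul, smul_tmul',
        smul_tmul']
  obtain ⟨a, s, ha, hs⟩ := hgen x
  refine smul_eq_zero_imp ha x ?_
  rw [hs, key]
  have h1 : (t * s) ⊗ₜ[R] Ideal.Quotient.mk m 1 = 0 := by
    rw [← smul_eq_mul, ← smul_tmul', ← hs, smul_comm, hx, smul_zero]
  exact (hq.mem_or_mem ((key _).1 h1)).resolve_left ht

/-- `t` outside `pS` is injective on `S ⊗ W` for `R_p`-modules killed by a power of `p`. -/
lemma eq_zero_of_pow [hq : (p.map (algebraMap R S)).IsPrime] {t : S}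
    (ht : t ∉ p.map (algebraMap R S)) : ∀ (n : ℕ) (W : Type u) [AddCommGroup W] [Module R W]
    [Module (Localization.AtPrime p) W] [IsScalarTower R (Localization.AtPrime p) W],
    (IsLocalRing.maximalIdeal (Localization.AtPrime p) ^ n • ⊤ :
      Submodule (Localization.AtPrime p) W) = ⊥ →
    ∀ x : S ⊗[R] W, t • x = 0 → x = 0 := by
  intro n
  induction n with
  | zero =>
    intro W _ _ _ _ h x _
    have : Subsingleton W := subsingleton_of_forall_eq 0 fun w => by
      rw [← Submodule.mem_bot (Localization.AtPrime p), ← h]; simp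
    exact Subsingleton.elim _ _
  | succ n ih =>
    intro W _ _ _ _ h x hx
    let Rp := Localization.AtPrime p
    let m := IsLocalRing.maximalIdeal Rp
    let W' : Submodule Rp W := m • ⊤
    have h' : (m ^ n • ⊤ : Submodule Rp W') = ⊥ := by
      apply Submodule.map_injective_of_injective W'.injective_subtype
      rw [Submodule.map_smul'', Submodule.map_top, Submodule.range_subtype, Submodule.map_bot,
        ← Submodule.smul_assoc, smul_eq_mul, ← pow_succ]
      exact h
    let i : W' →ₗ[R] W := W'.subtype.restrictScalars R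
    let π : W →ₗ[R] (W ⧸ W') := W'.mkQ.restrictScalars R
    have hex : Function.Exact i π := fun w => by
      show Submodule.Quotient.mk w = 0 ↔ w ∈ Set.range i
      rw [Submodule.Quotient.mk_eq_zero]
      exact ⟨fun hw => ⟨⟨w, hw⟩, rfl⟩, fun ⟨⟨v, hv⟩, e⟩ => e ▸ hv⟩
    have hexS := lTensor_exact S hex (Submodule.Quotient.mk_surjective W')
    -- the quotient is a vector space over the residue field
    have hq' : ∀ y : S ⊗[R] (W ⧸ W'), t • y = 0 → y = 0 := by
      have htors : Module.IsTorsionBySet Rp (W ⧸ W') m := by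
        rintro w ⟨a, ha⟩
        obtain ⟨w, rfl⟩ := Submodule.Quotient.mk_surjective _ w
        rw [← Submodule.Quotient.mk_smul, Submodule.Quotient.mk_eq_zero]
        exact Submodule.smul_mem_smul ha trivial
      letI : Module (Rp ⧸ m) (W ⧸ W') := htors.module
      letI : Field (Rp ⧸ m) := Ideal.Quotient.field m
      haveI : IsScalarTower Rp (Rp ⧸ m) (W ⧸ W') := htors.isScalarTower
      haveI : IsScalarTower R (Rp ⧸ m) (W ⧸ W') := IsScalarTower.of_algebraMap_smul fun a w => by
        rw [IsScalarTower.algebraMap_apply R Rp (Rp ⧸ m), algebraMap_smul, algebraMap_smul]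
      let bas := Module.Free.chooseBasis (Rp ⧸ m) (W ⧸ W')
      let e : (W ⧸ W') ≃ₗ[R] (_ →₀ (Rp ⧸ m)) := bas.repr.restrictScalars R
      intro y hy
      let E := (AlgebraTensorModule.congr (LinearEquiv.refl S S) e).trans
        (TensorProduct.finsuppRight R S S (Rp ⧸ m) _)
      refine E.map_eq_zero_iff.1 (Finsupp.ext fun j => eq_zero_of_residue ht _ ?_)
      rw [← Finsupp.smul_apply, ← map_smul, hy, map_zero, Finsupp.zero_apply]
    let πS : S ⊗[R] W →ₗ[S] S ⊗[R] (W ⧸ W') := AlgebraTensorModule.map LinearMap.id π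
    let iS : S ⊗[R] W' →ₗ[S] S ⊗[R] W := AlgebraTensorModule.map LinearMap.id i
    have hπ : π.lTensor S x = 0 := hq' _ (by
      show t • πS x = 0
      rw [← map_smul, hx, map_zero])
    obtain ⟨x', rfl⟩ := (hexS x).1 hπ
    have hi : Function.Injective iS :=
      Module.Flat.lTensor_preserves_injective_linearMap (M := S) i W'.injective_subtype
    have : x' = 0 := ih W' h' x' (hi (by rw [map_smul, map_zero]; exact hx))
    rw [this, map_zero]

/-- Symbolic powers commute with flat extensions with prime extension. -/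
theorem map_symb (p : Ideal R) [p.IsPrime] [hq : (p.map (algebraMap R S)).IsPrime] (n : ℕ) :
    (symb p n).map (algebraMap R S) = symb (p.map (algebraMap R S)) n := by
  have mem_symb : ∀ {A : Type u} [CommRing A] (P : Ideal A) [P.IsPrime] (x : A),
      x ∈ symb P n ↔ ∃ a ∉ P, a * x ∈ P ^ n := fun P _ x => by
    rw [symb, Ideal.mem_comap,
      IsLocalization.algebraMap_mem_map_algebraMap_iff P.primeCompl]
    rfl
  refine le_antisymm (Ideal.map_le_iff_le_comap.2 fun x hx => ?_) fun x hx => ?_
  · obtain ⟨a, ha, hax⟩ := (mem_symb p x).1 hx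
    rw [Ideal.mem_comap, mem_symb]
    exact ⟨_, algebraMap_notMem ha, by
      rw [← map_mul, ← Ideal.map_pow]; exact Ideal.mem_map_of_mem _ hax⟩
  · obtain ⟨t, ht, htx⟩ := (mem_symb _ x).1 hx
    rw [← tmul_one_W_eq_zero_iff]
    refine eq_zero_of_pow ht n _ ?_ _ ?_
    · rw [eq_bot_iff, Submodule.smul_le]
      rintro a ha ⟨w⟩ -
      rw [Submodule.mem_bot]
      show Ideal.Quotient.mk _ (a • w) = 0
      rw [Ideal.Quotient.eq_zero_iff_mem, Ideal.map_pow, Localization.AtPrime.map_eq_maximalIdeal]
      exact Ideal.mul_mem_right _ _ ha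
    · rw [smul_tmul', tmul_one_W_eq_zero_iff, smul_eq_mul]
      have hle : p ^ n ≤ symb p n := Ideal.le_comap_map
      exact Ideal.map_mono hle (by rwa [Ideal.map_pow])

end GrothLib.SymbFlat
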